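import Cfsg.Agent.CJ.S1
import Cfsg.Agent.CJ.Lin
import Cfsg.Agent.CJ.Br

/-!
S4793: the stabiliser of `b` acts trivially on the weight space of `b b*`; the weight `0` does not occur.
`dl_triv`: `U = Wt (ou b b)` is invariant under `dl w w' a` (`lev_mem_ou`, cf. `dl_app`); if `dl a` is not trivial on `U`, `exists_eig` gives `0 ≠ y ∈ U` with eigencharacter `α ≠ 1`, fixed by the `tv w c`
(`tv_wt`), so `ρ nn y = κ • y` (`l2a`). Take `u` with `𝐡 u w' = 0`, `𝐡 u b = 1` (`exists_herm_sep`); `up (ou u w - ou w u)` fixes `y` (trace `0`), so `lev (1 + ou u w') = nn * up * nn` fixes `y` (`nn_up`, `nn_nn`);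
but it maps `y` into `Wt (ou b' b')`, `b' = b - w'`, `ou b' b' ≠ ou b b` (apply to `w`); `pj_same`, `pj_ne` give `y = 0`. `lev_triv`: `dl_induction`.
`wt_zero`: `U = Wt 0` is `lev`-invariant and fixed by all `up S`, `hs u` (`hs_triv`). (1) Every `lev (1 + ou u w')` (`𝐡 u w' = 0`, `w' ≠ 0`) is trivial on `U`: else `free_orbit` with `τ c = lev (1 + ou (c • u) w')`,
`r a = (α a)⁻¹ • ρ (dl w w' a)` over `a ≠ 0` (`α` from `exists_mulChar`, `𝐡 w w' = 1`, `π a c = a c`) gives an `α`-eigenvector `y ∈ U` moved by some `τ c`, but as above `l2a` and `nn_up` show it is fixed.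
(2) Every `dl w w' a` is trivial on `U`: else an eigenvector `y ≠ 0` with `ρ nn y = κ • y` is fixed by `tr (0,0,w') c = nn * tv w c * nn` (`mul_tr`), hence by all `tr (0,0,w'') c` (multiples of `w'`: rescale `c` by the norm;
otherwise conjugate by `lev (1 + ou u (w' - w''))`, `𝐡 u (w' - w'') = 0`, `𝐡 u w' = 1`), hence by all transvections (`exists_move_iso`; `b = 0`: `tv_eq_tr`), so by `tr_gen` (stabiliser of `y`, scalars by `ZT`) by `R`, so `y = 0`.
(3) `dl_induction` with `b = 0`: all `lev X` are trivial on `U`, so `rr z` is (`sc_eq`, `ZT`), so `U = ⊥`.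
-/

set_option autoImplicit false
set_option linter.unusedSectionVars false

namespace Cfsg.Agent.CJ

open Module Matrix Cfsg Cfsg.Agent.Class.U Cfsg.Agent.KSG

variable {F : Type*} [Field F] {q : ℕ} [hU : UF F q] {m : ℕ}

local notation "σ" => conj F q
local notation "𝐡" => hermForm m F q

variable [Fintype F] [DecidableEq F] {M : Type*} [AddCommGroup M] [Module ℂ M]
  {Ψ : AddChar F ℂ} {ρ : Ga F q m →* End ℂ M}

theorem s2_dl {w w' : Fin m → F} (hw : 𝐡 w w' = 1) {a : F} (ha : a ≠ 0) (v : Fin m → F) :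
    cT q (1 + (a - 1) • ou q w w')⁻¹ *ᵥ v = v + (((σ a)⁻¹ - 1) * 𝐡 v w) • w' := by
  have h1 := dl_app hw ha ((0, 0, v) : Sp F m)
  rw [dl, lev_app (by rw [det_dl hw]; exact ha.isUnit)] at h1
  exact congrArg (fun x : Sp F m => x.2.2) h1

theorem s2_det {u w' : Fin m → F} (hu : 𝐡 u w' = 0) : IsUnit (1 + ou q u w').det := by
  rw [det_one_add_ou, hu, add_zero]; exact isUnit_one

theorem s2_tr {u w' : Fin m → F} (hu : 𝐡 u w' = 0) (v : Fin m → F) :
    cT q (1 + ou q u w')⁻¹ *ᵥ v = v - 𝐡 v u • w' := by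
  rw [inv_one_add_ou (by rw [hu, add_zero]; exact one_ne_zero), hu, add_zero, inv_one, one_smul, cT_sub, cT_one,
    cT_ou, sub_mulVec, one_mulVec, ou_mulVec]

theorem s2_fix {w w' : Fin m → F} (hw : 𝐡 w w' = 1) {y : M} {κ : ℂ} (hy : ρ (nn q w w') y = κ • y)
    {g g' : Ga F q m} (e : nn q w w' * g = g' * nn q w w') (hg : ρ g y = y) : ρ g' y = y := by
  have h1 : κ • κ • y = y := by
    rw [← hy, ← map_smul, ← hy, wt_rho_mul, nn_nn hw, map_one]; rfl
  have h2 : κ • ρ g' y = κ • y := by rw [← map_smul, ← hy, wt_rho_mul, ← e, ← wt_rho_mul, hg]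
  calc ρ g' y = ρ g' (κ • κ • y) := by rw [h1]
    _ = y := by rw [map_smul, map_smul, h2, h1]

theorem s2_eig (hΨ : Gd q Ψ) (hR : RF ρ) {w w' : Fin m → F} (hw : 𝐡 w w' = 1) {B : Matrix (Fin m) (Fin m) F}
    (hB : 𝐡 (B *ᵥ w) w = 0) (hU : ∀ a : F, a ≠ 0 → ∀ x ∈ Wt Ψ ρ B, ρ (dl q w w' a) x ∈ Wt Ψ ρ B) {a : F} (ha : a ≠ 0)
    {x : M} (hx : x ∈ Wt Ψ ρ B) (h : ρ (dl q w w' a) x ≠ x) :
    ∃ y ∈ Wt Ψ ρ B, y ≠ 0 ∧ ∃ κ : ℂ, ρ (nn q w w') y = κ • y := by
  obtain ⟨y, hy, y0, α, hα, a0, ha0, h1⟩ := exists_eig q (Wt Ψ ρ B) (fun a => ρ (dl q w w' a)) hU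
    (fun x _ => by rw [dl_one, map_one]; rfl) (fun a a' ha ha' x _ => by rw [dl_mul hw ha ha', wt_rho_mul]) hx ha h
  exact ⟨y, hy, y0, l2a hΨ hR hw (fun c hc => by rw [tv_wt w hc hy, hB, mul_zero, AddChar.map_zero_eq_one, one_smul])
    hα ha0 h1⟩

theorem dl_triv (hΨ : Gd q Ψ) (hR : RF ρ) {w w' b : Fin m → F} (hw : 𝐡 w w' = 1) (hb : b ≠ 0)
    (hwb : 𝐡 w b = 0) {a : F} (ha : a ≠ 0) {x : M} (hx : x ∈ Wt Ψ ρ (ou q b b)) :
    ρ (dl q w w' a) x = x := by
  have hbw : 𝐡 b w = 0 := herm_comm_zero hwb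
  have hB : ou q b b *ᵥ w = 0 := by rw [ou_mulVec, hwb, zero_smul]
  by_contra h
  obtain ⟨y, hy, y0, κ, hκ⟩ := s2_eig hΨ hR hw (by rw [hB, herm_zero_left]) (fun a ha x hx => by
    have := lev_mem_ou (X := 1 + (a - 1) • ou q w w') (by rw [det_dl hw]; exact ha.isUnit) hx
    rwa [s2_dl hw ha, hbw, mul_zero, zero_smul, add_zero] at this) ha hx h
  have hs : ∀ c : F, b ≠ c • w' := fun c e => by
    rw [e, herm_smul_right, hw, mul_one, conj_eq_zero] at hwb
    exact hb (by rw [e, hwb, zero_smul])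
  obtain ⟨u, hu, hub⟩ := exists_herm_sep (q := q) hs
  have h1 : ρ (lev q (1 + ou q u w')) y = y := s2_fix hw hκ (nn_up hw hu) (by
    rw [hy _ (skew_sub w u), Matrix.sub_mul, mul_ou, mul_ou, trace_sub, trace_ou, trace_ou, ou_mulVec, ou_mulVec,
      herm_smul_left, herm_smul_left, hbw, hwb, zero_mul, mul_zero, sub_zero, AddChar.map_zero_eq_one, one_smul])
  have h2 := lev_mem_ou (s2_det hu) hy
  rw [h1, s2_tr hu, herm_comm_one hub, one_smul] at h2
  refine y0 ((pj_same hy).symm.trans (pj_ne hΨ (cT_ou b b) (cT_ou _ _) (fun e => hs 1 ?_) h2))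
  rw [e, ou_mulVec, herm_sub_right, hwb, hw, zero_sub, neg_smul, one_smul, neg_eq_zero, sub_eq_zero] at hB
  rw [one_smul, hB]

theorem lev_triv (hΨ : Gd q Ψ) (hR : RF ρ) {b : Fin m → F} (hb : b ≠ 0)
    {X : Matrix (Fin m) (Fin m) F} (hX : IsUnit X.det) (hXb : cT q X⁻¹ *ᵥ b = b) {x : M}
    (hx : x ∈ Wt Ψ ρ (ou q b b)) : ρ (lev q X) x = x := by
  refine dl_induction (q := q) b (fun X => ρ (lev q X) x = x) (by rw [lev_one, map_one]; rfl)
    (fun w w' a X hw ha hwb hX h => ?_) hX ?_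
  · rw [lev_mul (by rw [det_dl hw]; exact ha.isUnit) hX, ← wt_rho_mul, h]
    exact dl_triv hΨ hR hw hb hwb ha hx
  · conv_lhs => rw [← hXb]
    rw [mulVec_mulVec, wt_cT_mul_inv hX, one_mulVec]

theorem s2_lev {X : Matrix (Fin m) (Fin m) F} (hX : IsUnit X.det) {x : M} (hx : x ∈ Wt Ψ ρ 0) :
    ρ (lev q X) x ∈ Wt Ψ ρ 0 := by
  simpa only [Matrix.mul_zero, Matrix.zero_mul] using lev_mem hX hx

theorem s2_up {S : Matrix (Fin m) (Fin m) F} (hS : cT q S = -S) {x : M} (hx : x ∈ Wt Ψ ρ 0) : ρ (up q S) x = x := by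
  rw [hx S hS, Matrix.mul_zero, trace_zero, AddChar.map_zero_eq_one, one_smul]

theorem s2_t1 (hΨ : Gd q Ψ) (hR : RF ρ) {u w' : Fin m → F} (hu : 𝐡 u w' = 0) (hw' : w' ≠ 0) {x : M}
    (hx : x ∈ Wt Ψ ρ 0) : ρ (lev q (1 + ou q u w')) x = x := by
  obtain ⟨w, hw⟩ := exists_herm_one (q := q) hw'
  obtain ⟨α, α1, αm, a0, ha0, h0⟩ := exists_mulChar F q
  have hc : ∀ c : F, 𝐡 (c • u) w' = 0 := fun c => by rw [herm_smul_left, hu, mul_zero]
  have hd : ∀ {a : F}, a ≠ 0 → IsUnit (1 + (a - 1) • ou q w w').det := fun ha => by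
    rw [det_dl hw]; exact ha.isUnit
  have hNN : ou q u w' * ou q u w' = 0 := by
    rw [mul_ou, ou_mulVec, ou_smul_left, hu, zero_smul]
  have hNP : ou q u w' * ou q w w' = ou q u w' := by
    rw [mul_ou, ou_mulVec, ou_smul_left, hw, one_smul]
  have hPN : ou q w w' * ou q u w' = 0 := by
    rw [mul_ou, ou_mulVec, ou_smul_left, hu, zero_smul]
  have α0 : ∀ {a : F}, a ≠ 0 → α a ≠ 0 := fun {a} ha e => by
    have := αm a a⁻¹
    rw [mul_inv_cancel₀ ha, α1, e, zero_mul] at this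
    exact one_ne_zero this
  by_contra h
  obtain ⟨y, hy, c, hne⟩ := free_orbit (Wt Ψ ρ 0) (fun c : F => ρ (lev q (1 + ou q (c • u) w')))
    (fun c x hx => s2_lev (s2_det (hc c)) hx)
    (fun x _ => by rw [ou_smul_left, zero_smul, add_zero, lev_one, map_one]; rfl)
    (fun a b x _ => by
      rw [wt_rho_mul, ← lev_mul (s2_det (hc a)) (s2_det (hc b))]
      congr 3
      simp only [ou_smul_left, add_mul, mul_add, one_mul, mul_one, Matrix.smul_mul, Matrix.mul_smul, hNN, smul_zero,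
        add_zero]
      module)
    (Finset.univ.filter fun a : F => a ≠ 0) (fun a => (α a)⁻¹ • ρ (dl q w w' a)) (fun a => AddMonoidHom.mulLeft a)
    (fun a ha x hx => Submodule.smul_mem _ _ (s2_lev (hd (Finset.mem_filter.1 ha).2) hx))
    (fun a ha c x _ => by
      have ha' := (Finset.mem_filter.1 ha).2
      rw [LinearMap.smul_apply, LinearMap.smul_apply, map_smul, wt_rho_mul, wt_rho_mul, dl,
        ← lev_mul (s2_det (hc c)) (hd ha'), ← lev_mul (hd ha') (s2_det (hc _))]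
      congr 4
      simp only [AddMonoidHom.coe_mulLeft, ou_smul_left, add_mul, mul_add, one_mul, mul_one, Matrix.smul_mul,
        Matrix.mul_smul, hNP, hPN, smul_zero, add_zero]
      module)
    (z0 := 1) (by simp) (fun x _ => by rw [LinearMap.smul_apply, α1, inv_one, one_smul, dl_one, map_one]; rfl)
    (fun χ hχ z _ e => by
      by_contra hz
      refine hχ (AddChar.ext _ _ fun t => ?_)
      have h1 : t = z * (t / (z - 1)) + -(t / (z - 1)) := by
        have := sub_ne_zero.2 hz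
        field_simp
        ring
      have h2 := e (t / (z - 1))
      rw [AddMonoidHom.coe_mulLeft] at h2
      rw [h1, AddChar.map_add_eq_mul, h2, ← AddChar.map_add_eq_mul, add_neg_cancel, AddChar.map_zero_eq_one,
        AddChar.one_apply])
    hx (a := 1) (by rwa [one_smul])
  have hY : (∑ a ∈ Finset.univ.filter fun a : F => a ≠ 0, ((α a)⁻¹ • ρ (dl q w w' a)) y) ∈ Wt Ψ ρ 0 :=
    Submodule.sum_mem _ fun a ha => Submodule.smul_mem _ _ (s2_lev (hd (Finset.mem_filter.1 ha).2) hy)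
  obtain ⟨κ, hκ⟩ := l2a hΨ hR hw (fun c hc => s2_up (skew_tv w hc) hY) (α := α) (fun b hb => by
    rw [map_sum, Finset.smul_sum]
    refine Finset.sum_equiv (Equiv.mulLeft₀ b hb) (fun a => by simp [hb]) fun a ha => ?_
    have ha' := (Finset.mem_filter.1 ha).2
    rw [LinearMap.smul_apply, LinearMap.smul_apply, map_smul, wt_rho_mul, ← dl_mul hw hb ha', Equiv.mulLeft₀_apply,
      smul_smul, αm, mul_inv, ← mul_assoc, mul_inv_cancel₀ (α0 hb), one_mul]) ha0 h0
  exact hne (s2_fix hw hκ (nn_up hw (hc c)) (s2_up (skew_sub _ _) hY))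

theorem s2_smul {e : Sp F m} (he : (fm F q m).f e e = 0) {c : F} (hc : c + σ c = 0) (t : F) :
    t * σ t * c + σ (t * σ t * c) = 0 ∧ (fm F q m).tr (t • e) c = (fm F q m).tr e (t * σ t * c) := by
  have h1 : t * σ t * c + σ (t * σ t * c) = 0 := by
    rw [map_mul, map_mul, conj_conj]
    linear_combination (t * σ t) * hc
  refine ⟨h1, Herm.iso_ext fun x => ?_⟩
  rw [Herm.tr_app _ (by rw [Herm.smul_left, Herm.smul_right, he, mul_zero, mul_zero]) hc, Herm.tr_app _ he h1,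
    Herm.smul_right, smul_smul]
  congr 2
  ring

theorem s2_t2 (hy : Hyp q m) (hΨ : Gd q Ψ) (hR : RF ρ) (hZ : ZT ρ) {w w' : Fin m → F} (hw : 𝐡 w w' = 1) {a : F}
    (ha : a ≠ 0) {x : M} (hx : x ∈ Wt Ψ ρ 0) : ρ (dl q w w' a) x = x := by
  by_contra h
  obtain ⟨y, hyU, y0, κ, hκ⟩ := s2_eig hΨ hR hw (B := 0) (by rw [zero_mulVec, herm_zero_left])
    (fun a ha x hx => s2_lev (by rw [det_dl hw]; exact ha.isUnit) hx) ha hx h
  let H : Subgroup (Ga F q m) :=
    { carrier := {g | ρ g y = y}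
      one_mem' := by change ρ 1 y = y; rw [map_one]; rfl
      mul_mem' := fun {g h} hg hh => by
        change ρ (g * h) y = y
        rw [← wt_rho_mul, show ρ h y = y from hh, show ρ g y = y from hg]
      inv_mem' := fun {g} hg => by
        change ρ g⁻¹ y = y
        conv_lhs => rw [← show ρ g y = y from hg]
        rw [wt_rho_mul, inv_mul_cancel, map_one]; rfl }
  have iso : ∀ v : Fin m → F, (fm F q m).f (0, 0, v) (0, 0, v) = 0 := fun v => by
    rw [fm_f, herm_zero_left, herm_zero_right, zero_mul, add_zero, add_zero]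
  have w0 : w' ≠ 0 := fun e => by
    rw [e, herm_zero_right] at hw
    exact zero_ne_one hw
  have h1 : ∀ c, c + σ c = 0 → (fm F q m).tr (0, 0, w') c ∈ H := fun c hc => by
    refine s2_fix hw hκ (g := tv q w c) ?_ (s2_up (skew_tv w hc) hyU)
    rw [tv_eq_tr w hc, Herm.mul_tr _ _ (by
      rw [fm_f, herm_zero_left, herm_zero_right, zero_mul, add_zero, add_zero]) hc, nn_app hw]
    simp [herm_zero_left, hw]
  have h2 : ∀ v : Fin m → F, ∀ c, c + σ c = 0 → (fm F q m).tr (0, 0, v) c ∈ H := fun v c hc => by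
    by_cases hv : ∃ t : F, v = t • w'
    · obtain ⟨t, rfl⟩ := hv
      have := s2_smul (iso w') hc t
      rw [show ((0, 0, t • w') : Sp F m) = t • (0, 0, w') by simp, this.2]
      exact h1 _ this.1
    · obtain ⟨u, hu, hu'⟩ := exists_herm_sep (q := q) (b := w') (w' := w' - v) fun t e => hv (by
        have t0 : t ≠ 0 := fun e' => w0 (by rw [e, e', zero_smul])
        refine ⟨1 - t⁻¹, ?_⟩
        have e2 : t⁻¹ • w' = w' - v := by rw [inv_smul_eq_iff₀ t0]; exact e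
        rw [sub_smul, one_smul, e2, sub_sub_cancel])
      have g1 : lev q (1 + ou q u (w' - v)) ∈ H :=
        s2_t1 hΨ hR hu (fun e => hv ⟨1, by rw [one_smul, sub_eq_zero.1 e]⟩) hyU
      have e := (fm F q m).mul_tr (lev q (1 + ou q u (w' - v))) (iso w') hc
      rw [lev_app (s2_det hu), s2_tr hu, herm_comm_one hu', one_smul, sub_sub_cancel, mulVec_zero] at e
      exact (Subgroup.mul_mem_cancel_right H g1).1 (e ▸ H.mul_mem g1 (h1 c hc))
  have h3 : H = ⊤ := tr_gen hy H (fun z hz => by change ρ _ y = y; rw [hZ z hz]; rfl) fun e c he hc => by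
    by_cases hb : e.2.2 = 0
    · obtain ⟨e1, e2, e3⟩ := e
      obtain rfl : e3 = 0 := hb
      rw [fm_f, herm_zero_left, herm_zero_right, zero_add, add_zero, mul_eq_zero, conj_eq_zero, or_self] at he
      obtain rfl : e2 = 0 := he
      rw [← tv_eq_tr e1 hc]
      exact s2_up (skew_tv e1 hc) hyU
    · obtain ⟨u, S, hS, hm⟩ := exists_move_iso he hb
      have g1 : up q S * hs q u ∈ H :=
        H.mul_mem (s2_up hS hyU) (hs_triv hR (by rw [zero_mulVec, herm_zero_left]) hyU)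
      have e1 := (fm F q m).mul_tr (up q S * hs q u) he hc
      rw [hm] at e1
      exact (Subgroup.mul_mem_cancel_left H g1).1 (e1 ▸ H.mul_mem (h2 _ c hc) g1)
  exact y0 (hR y fun z _ => (h3.ge (Subgroup.mem_top (rr q m z)) : _ ∈ H))

theorem wt_zero (hy : Hyp q m) (hΨ : Gd q Ψ) (hR : RF ρ) (hZ : ZT ρ) : Wt Ψ ρ 0 = ⊥ := by
  have h1 : ∀ X : Matrix (Fin m) (Fin m) F, IsUnit X.det → ∀ x ∈ Wt Ψ ρ 0, ρ (lev q X) x = x := fun X hX x hx =>
    dl_induction (q := q) 0 (fun X => ρ (lev q X) x = x) (by rw [lev_one, map_one]; rfl)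
      (fun w w' a X hw ha _ hX h => by
        rw [lev_mul (by rw [det_dl hw]; exact ha.isUnit) hX, ← wt_rho_mul, h]
        exact s2_t2 hy hΨ hR hZ hw ha hx) hX (mulVec_zero _)
  refine eq_bot_iff.2 fun x hx => hR x fun z hz => ?_
  have z0 : z ≠ 0 := fun e => by
    rw [e, zero_mul] at hz
    exact zero_ne_one hz
  rw [← h1 (z • 1) (by rw [det_smul, det_one, mul_one]; exact (pow_ne_zero _ z0).isUnit) _ (rr_mem hz hx), wt_rho_mul,
    ← sc_eq hz, hZ z hz]
  rfl

end Cfsg.Agent.CJ
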